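import Groth.Agent.H16Derived.H0Split.Abs
import Groth.Agent.H16Derived.BaseChange.Main
import Groth.Agent.H16Derived.KFlat.PerfConcD
import Groth.Agent.H16Derived.TorTest.DescPC
import Groth.Agent.H16Derived.QCohD.Rpush
import Groth.Agent.H8Props.RelPCBaseChange
import Groth.Agent.LeadBC.GenBC.AppIsoApps

/-!
# The unit `O ⟶ Rf_* O` when the fibres have only constants
-/

set_option autoImplicit false
set_option linter.style.haveILetI false
set_option backward.isDefEq.respectTransparency false

universe u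

open CategoryTheory CategoryTheory.Limits AlgebraicGeometry CategoryTheory.Pretriangulated

attribute [local instance] HasDerivedCategory.standard

noncomputable section

namespace Groth.Agent.H16Derived.H0Split

open Groth.Agent.H16Derived.KFlat Groth.Agent.H16Derived.KFlat.Stalk Groth.Agent.H16Derived.BaseChange

section Mates

variable {A B C D : Type*} [Category A] [Category B] [Category C] [Category D]
  {F : A ⥤ B} {R : B ⥤ A} {F' : C ⥤ D} {R' : D ⥤ C} {G : A ⥤ C} {G' : B ⥤ D}

/-- Base change of the units. -/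
theorem unit_bc (adj : F ⊣ R) (adj' : F' ⊣ R') (φ : G ⋙ F' ⟶ F ⋙ G') (N : A) :
    adj'.unit.app (G.obj N) ≫ R'.map (φ.app N) = G.map (adj.unit.app N) ≫ bcApp adj adj' φ (F.obj N) := by
  apply (adj'.homEquiv _ _).symm.injective
  have hb := bcApp_symm adj adj' φ (F.obj N)
  rw [Adjunction.homEquiv_counit] at hb
  have h := φ.naturality (adj.unit.app N)
  simp only [Functor.comp_map, Functor.id_obj, Functor.comp_obj] at h hb ⊢
  rw [Adjunction.homEquiv_counit, Adjunction.homEquiv_counit]
  simp only [Functor.map_comp, Category.assoc]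
  rw [hb, ← Category.assoc (F'.map (G.map (adj.unit.app N))), h, Category.assoc, ← Functor.map_comp,
    Adjunction.left_triangle_components, CategoryTheory.Functor.map_id, Category.comp_id]
  simp

end Mates

variable {X S : Scheme.{u}}

/-- Endomorphisms of the structure sheaf commute. -/
theorem end_comm (p q : Coh.structureModule X ⟶ Coh.structureModule X) : p ≫ q = q ≫ p := by
  refine unit_hom_ext _ _ ?_
  have hk : ∀ (k : Coh.structureModule X ⟶ Coh.structureModule X) (r : Γ(X, ⊤)),
      k.app ⊤ r = (r * (show Γ(X, ⊤) from k.app ⊤ (1 : Γ(X, ⊤))) : Γ(X, ⊤)) := fun k r => by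
    have := k.app_smul (U := (⊤ : X.Opens)) r (1 : Γ(X, ⊤))
    exact (congrArg (fun z => k.app ⊤ z) (mul_one r).symm).trans this
  show q.app ⊤ (p.app ⊤ (1 : Γ(X, ⊤))) = p.app ⊤ (q.app ⊤ (1 : Γ(X, ⊤)))
  let a : Γ(X, ⊤) := p.app ⊤ (1 : Γ(X, ⊤))
  let b : Γ(X, ⊤) := q.app ⊤ (1 : Γ(X, ⊤))
  exact (hk q a).trans ((mul_comm a b).trans (hk p b).symm)

/-- The unit object in degree zero pulled back. -/
def lpullO (f : X ⟶ S) [DCoh.HasLpull f] :
    (DCoh.Lpull f).obj (DCoh.inD S (Coh.structureModule S)) ≅ DCoh.inD X (Coh.structureModule X) :=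
  lpullSingleIso f (H8Props.RelPC.isFinLocFree_structure S) 0 ≪≫
    (DerivedCategory.singleFunctor X.Modules 0).mapIso (structurePullbackIso f)

theorem surjective_of_fibres (f : X ⟶ S) (hK : ∀ s : S, IsIso (f.fiberToSpecResidueField s).appTop) :
    Surjective f := by
  refine ⟨fun s => ?_⟩
  by_contra hs
  haveI : IsEmpty (f.fiber s) := ⟨fun z => hs ⟨f.fiberι s z,
    (f.range_fiberι s).subset (Set.mem_range_self z)⟩⟩
  haveI : Subsingleton Γ(f.fiber s, ⊤) := inferInstance
  haveI : Subsingleton Γ(Spec (S.residueField s), ⊤) :=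
    haveI := hK s
    (ConcreteCategory.bijective_of_isIso ((f.fiberToSpecResidueField s).appTop)).injective.subsingleton
  haveI : Subsingleton (S.residueField s) :=
    (ConcreteCategory.bijective_of_isIso (Scheme.ΓSpecIso (S.residueField s)).inv).injective.subsingleton
  exact not_subsingleton (S.residueField s) inferInstance

/-- Isomorphisms are detected by a flat surjective pullback. -/
theorem isIso_of_lpull (f : X ⟶ S) [Flat f] [Surjective f] [DCoh.HasLpull f] {K L : DCoh.D S} (φ : K ⟶ L)
    (h : IsIso ((DCoh.Lpull f).map φ)) : IsIso φ := by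
  letI := lpullCommShift f
  haveI := lpull_isTriangulated f
  obtain ⟨C, g, w, hT⟩ := distinguished_cocone_triangle φ
  refine (Triangle.isZero₃_iff_isIso₁ _ hT).1 ?_
  have hz : IsZero ((DCoh.Lpull f).obj C) :=
    (Triangle.isZero₃_iff_isIso₁ _ ((DCoh.Lpull f).map_distinguished _ hT)).2 h
  obtain ⟨P, hP, ⟨eP⟩⟩ := exists_kflat_rep C
  refine IsZero.of_iso ?_ eP.symm
  refine (Thomason.isZero_of_suppIn_empty fun i y hy => ?_)
  obtain ⟨x, rfl⟩ := Surjective.surj (f := f) y
  refine hy (TorTest.subsingleton_stalk_of_pullback f _ x ?_)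
  have h1 : IsZero ((Scheme.Modules.pullback f).obj (DCoh.HD (DCoh.toD S P) i)) := by
    refine IsZero.of_iso ?_ ((Scheme.Modules.pullback f).mapIso
      ((DerivedCategory.homologyFunctorFactors S.Modules i).app P) ≪≫ (TorTest.pullHomologyIso f P i).symm ≪≫
      ((DerivedCategory.homologyFunctorFactors X.Modules i).app _).symm ≪≫
      (DerivedCategory.homologyFunctor X.Modules i).mapIso ((lpullObjIso f P hP).symm ≪≫ (DCoh.Lpull f).mapIso eP))
    exact (DerivedCategory.homologyFunctor X.Modules i).map_isZero hz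
  exact ModuleCat.subsingleton_of_isZero ((DerSch.stalkFunctor X x).map_isZero h1)

variable (f : X ⟶ S) [IsProper f] [Flat f] [LocallyOfFinitePresentation f]
  (hK : ∀ s : S, IsIso (f.fiberToSpecResidueField s).appTop) [DCoh.HasLpull f] [DCoh.HasRpush f]

omit [IsProper f] [Flat f] [LocallyOfFinitePresentation f] in
theorem isGE_rpush_lpullO :
    ((DCoh.Rpush f).obj ((DCoh.Lpull f).obj (DCoh.inD S (Coh.structureModule S)))).IsGE 0 := by
  haveI : ((DCoh.Lpull f).obj (DCoh.inD S (Coh.structureModule S))).IsGE 0 :=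
    DerivedCategory.TStructure.t.isGE_of_iso (lpullO f).symm 0
  exact isGE_rpush f _ 0

include hK in
/-- **The unit is an isomorphism on `H⁰`.** -/
theorem isIso_homology_unit :
    IsIso ((DerivedCategory.homologyFunctor S.Modules 0).map
      ((lpullRpushAdj f).unit.app (DCoh.inD S (Coh.structureModule S)))) := by
  haveI := surjective_of_fibres f hK
  haveI := QCohD.hasInjectiveResolutions_modules (X := X)
  let O := Coh.structureModule S
  let adj := lpullRpushAdj f
  let E := (DCoh.Rpush f).obj ((DCoh.Lpull f).obj (DCoh.inD S O))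
  haveI := isGE_rpush_lpullO f
  obtain ⟨M, ι, hι, hfac⟩ := exists_single_hom E
  obtain ⟨a, ha⟩ := hfac O (adj.unit.app (DCoh.inD S O))
  haveI := LeadBC.GenBC.isIso_unitToPush_of_app f (LeadBC.GenBC.isIso_app_of_fibres f hK)
  obtain ⟨e₀⟩ := QCohD.nonempty_hd_rpush_single f (Coh.structureModule X) 0
  let cM : M ≅ O := (hdSingle M 0).symm ≪≫ asIso ((DerivedCategory.homologyFunctor S.Modules 0).map ι) ≪≫
    (DerivedCategory.homologyFunctor S.Modules 0).mapIso ((DCoh.Rpush f).mapIso (lpullO f)) ≪≫ e₀ ≪≫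
    (Coh.push f).rightDerivedZeroIsoSelf.app _ ≪≫ (asIso (ClSub.unitToPush f)).symm
  let sg := DerivedCategory.singleFunctor S.Modules 0
  have hid : (DCoh.Lpull f).map (sg.map (a ≫ cM.hom)) ≫
      (DCoh.Lpull f).map (sg.map cM.inv) ≫ (adj.homEquiv _ _).symm ι = 𝟙 _ := by
    rw [← Category.assoc, ← Functor.map_comp, ← Functor.map_comp, Category.assoc, Iso.hom_inv_id,
      Category.comp_id, ← Adjunction.homEquiv_naturality_left_symm, ← ha, Adjunction.homEquiv_counit]
    exact adj.left_triangle_components _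
  set t := (DCoh.Lpull f).map (sg.map cM.inv) ≫ (adj.homEquiv _ _).symm ι with ht
  let ψ := lpullO f
  let sX := DerivedCategory.singleFunctor X.Modules 0
  obtain ⟨p, hp⟩ := sX.map_surjective (ψ.inv ≫ (DCoh.Lpull f).map (sg.map (a ≫ cM.hom)) ≫ ψ.hom)
  obtain ⟨q, hq⟩ := sX.map_surjective (ψ.inv ≫ t ≫ ψ.hom)
  have hpq : p ≫ q = 𝟙 _ := sX.map_injective (by
    rw [Functor.map_comp, hp, hq, CategoryTheory.Functor.map_id]
    simp only [Category.assoc, Iso.hom_inv_id_assoc]
    rw [reassoc_of% hid]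
    exact ψ.inv_hom_id)
  haveI : IsIso p := ⟨q, hpq, (end_comm q p).trans hpq⟩
  haveI : IsIso ((DCoh.Lpull f).map (sg.map (a ≫ cM.hom))) := by
    rw [show (DCoh.Lpull f).map (sg.map (a ≫ cM.hom)) = ψ.hom ≫ sX.map p ≫ ψ.inv by rw [hp]; simp]
    infer_instance
  haveI : IsIso (sg.map (a ≫ cM.hom)) := isIso_of_lpull f _ inferInstance
  haveI : IsIso (a ≫ cM.hom) := isIso_of_fully_faithful sg _
  haveI : IsIso a := IsIso.of_isIso_comp_right a cM.hom
  rw [ha, Functor.map_comp]
  infer_instance

end Groth.Agent.H16Derived.H0Split
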