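import Groth.Agent.H16Derived.DTrunc
import Mathlib.CategoryTheory.Triangulated.TStructure.TruncLEGT

/-!
# Lemmas around the zeroth cohomology of objects in degrees `≥ 0`
-/

set_option autoImplicit false
set_option linter.style.haveILetI false
set_option backward.isDefEq.respectTransparency false

universe w v u

open CategoryTheory CategoryTheory.Limits CategoryTheory.Pretriangulated
open DerivedCategory DerivedCategory.TStructure Groth.Agent.H16Derived.DTrunc

noncomputable section

namespace Groth.Agent.H16Derived.H0Split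

variable {A : Type u} [Category.{v} A] [Abelian A] [HasDerivedCategory.{w} A]

/-- The map from `H⁰` of an object in degrees `≥ 0`. -/
theorem exists_single_hom (K : DerivedCategory A) [K.IsGE 0] :
    ∃ (M : A) (ι : (singleFunctor A 0).obj M ⟶ K), IsIso ((homologyFunctor A 0).map ι) ∧
      ∀ (N : A) (φ : (singleFunctor A 0).obj N ⟶ K), ∃ a : N ⟶ M, φ = (singleFunctor A 0).map a ≫ ι := by
  let T := (t.truncLT 1).obj K
  haveI : T.IsGE 0 := isGE_truncLT K 1 0
  haveI : T.IsLE 0 := t.isLE_truncLT_obj K 1 0 (by omega)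
  obtain ⟨M, ⟨e⟩⟩ := exists_iso_singleFunctor_obj_of_isGE_of_isLE T 0
  haveI := isIso_homology_truncLTι K 1 0 (by omega)
  refine ⟨M, e.inv ≫ (t.truncLTι 1).app K, by rw [Functor.map_comp]; infer_instance, fun N φ => ?_⟩
  obtain ⟨b, hb⟩ : ∃ b : (singleFunctor A 0).obj N ⟶ T, φ = b ≫ (t.truncLTι 1).app K :=
    ⟨t.liftTruncLT φ 0 1 (by omega), (t.liftTruncLT_ι φ 0 1 (by omega)).symm⟩
  obtain ⟨a, ha⟩ := (singleFunctor A 0).map_surjective (b ≫ e.hom)
  exact ⟨a, by rw [ha, hb]; simp⟩

/-- A cone of a map inducing an isomorphism on `H⁰`. -/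
theorem isGE_one_of_isIso_homology (T : Triangle (DerivedCategory A)) (hT : T ∈ distTriang _)
    [T.obj₁.IsGE 0] [T.obj₁.IsLE 0] [T.obj₂.IsGE 0] (h : IsIso ((homologyFunctor A 0).map T.mor₁)) :
    T.obj₃.IsGE 1 := by
  refine (DerivedCategory.isGE_iff _ _).2 fun i hi => ?_
  refine (HomologySequence.exact₃ T hT i (i + 1) rfl).isZero_X₂ ?_ ?_
  · rcases lt_or_eq_of_le (show i ≤ 0 by omega) with hi' | hi'
    · exact (DerivedCategory.isZero_of_isGE T.obj₂ 0 i hi').eq_of_src _ _
    · subst hi'
      exact (cancel_epi ((homologyFunctor A 0).map T.mor₁)).1 (by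
        rw [comp_zero, ← Functor.map_comp, Pretriangulated.comp_distTriang_mor_zero₁₂ _ hT, Functor.map_zero])
  · rcases lt_or_eq_of_le (show i + 1 ≤ 1 by omega) with hi' | hi'
    · rcases lt_or_eq_of_le (show i + 1 ≤ 0 by omega) with hj | hj
      · exact (DerivedCategory.isZero_of_isGE T.obj₁ 0 _ hj).eq_of_tgt _ _
      · haveI : Mono ((homologyFunctor A (i + 1)).map T.mor₁) := by rw [hj]; infer_instance
        exact (cancel_mono ((homologyFunctor A (i + 1)).map T.mor₁)).1 (by
          rw [zero_comp, HomologySequence.δ_comp T hT i (i + 1) rfl])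
    · exact (DerivedCategory.isZero_of_isLE T.obj₁ 0 _ (by omega)).eq_of_tgt _ _

end Groth.Agent.H16Derived.H0Split
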