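import Groth.Agent.H16Derived.H0Split.Abs
import Groth.Agent.H16Derived.ProjLift
import Groth.Agent.H16Derived.TorTest.TildeAmp
import Groth.Agent.H16Derived.TorTest.AbsStalk
import Groth.Agent.H16Derived.TorTest.RpushAmpLoc
import Groth.Agent.H16Derived.Thomason.IsoTransport
import Groth.Agent.H4DR.TorAmp.Perfect
import Groth.Agent.S0912

/-!
# Maps from perfect objects in degrees `≥ 1` to objects in degrees `≤ 0` on affine schemes
-/

set_option autoImplicit false
set_option linter.style.haveILetI false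
set_option backward.isDefEq.respectTransparency false

universe u

open CategoryTheory CategoryTheory.Limits AlgebraicGeometry CategoryTheory.Pretriangulated

attribute [local instance] HasDerivedCategory.standard

noncomputable section

namespace Groth.Agent.H16Derived.H0Split

open Groth.Agent.H16Derived.KFlat Groth.Agent.H16Derived.KFlat.Stalk Groth.Agent.H4DR.TorAmp

/-- On a spectrum. -/
theorem hom_eq_zero_spec {R : CommRingCat.{u}} {P L : DCoh.D (Spec R)} (hP : DCoh.IsPerfect P) {b : ℤ}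
    (hb : 1 ≤ b) (G : CochainComplex (Spec R).Modules ℤ) (eG : DCoh.toD _ G ≅ P)
    (hta : DerSch.HasTorAmplitude (𝟙 (Spec R)) 1 b G) (hL : DCoh.IsQCohD L) [L.IsLE 0] (φ : P ⟶ L) : φ = 0 := by
  haveI : PreservesFiniteLimits (tilde.functor (CommRingCat.of R)) := inferInstance
  obtain ⟨M, ⟨eM⟩⟩ := QCohD.exists_tildeD_iso R (Dual.isQCohD_of_isPerfect hP)
  obtain ⟨N, ⟨eN⟩⟩ := QCohD.exists_tildeD_iso R hL
  have hflat := (S0912.result _ 1 b hb hasLTensorMod).1
    (TorTest.hasTorAmplitudeIn_of_stalk (TorTest.hasTorAmplitude_of_iso (Iso.refl _) hta))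
  obtain ⟨E, hE1, hE2, ⟨eE⟩⟩ := hflat
  have hM : DRing.HasTorAmplitudeIn R 1 b M :=
    (TorTest.hasFlatAmplitudeIn_tildeD_iff (A := R) M 1 b).1 ⟨E, hE1, hE2, ⟨eE ≪≫ eG ≪≫ eM.symm⟩⟩
  have hMp : DRing.IsPerfect R M := (perfect_tilde_iff (A := R) M).1 (isPerfect_of_iso eM.symm hP)
  obtain ⟨C, hC, hCf, ⟨eC⟩⟩ := pf_of_pc_of_ta ((pc_tilde_iff (A := R) M _).1
    (isPseudoCoherentD_of_iso eM.symm (isPseudoCoherentD_of_isPerfect hP (1 - 1)))) hM
  haveI : N.IsLE 0 := (isLE_tilde_iff (A := R) N 0).1 (DerivedCategory.TStructure.t.isLE_of_iso eN.symm 0)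
  obtain ⟨N₀, hN₀, ⟨eN₀⟩⟩ := DerivedCategory.exists_iso_Q_obj_of_isLE N 0
  haveI : C.IsStrictlyLE b := (CochainComplex.isStrictlyLE_iff _ _).2 fun i hi => hC i (Or.inr hi)
  haveI := fun i => (hCf i).2
  haveI : ∀ i, Projective (C.X i) := fun i => inferInstance
  haveI := CochainComplex.isKProjective_of_projective C b
  obtain ⟨hfull, hfaith⟩ := QCohD.full_faithful (R := R)
  obtain ⟨ψ, hψ⟩ := (DCoh.tildeD R).map_surjective (eM.hom ≫ φ ≫ eN.inv)
  obtain ⟨g, hg⟩ := ProjLift.Q_map_surjective C N₀ (eC.hom ≫ ψ ≫ eN₀.hom)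
  have hg0 : g = 0 := by
    ext1 i
    rcases lt_or_ge i 1 with h | h
    · exact (hC i (Or.inl h)).eq_of_src _ _
    · exact (N₀.isZero_of_isStrictlyLE 0 i (by omega)).eq_of_tgt _ _
  have hψ0 : ψ = 0 := by
    rw [← cancel_epi eC.hom, ← cancel_mono eN₀.hom, Category.assoc, ← hg, hg0, Functor.map_zero, comp_zero,
      zero_comp]
  rw [← cancel_epi eM.hom, ← cancel_mono eN.inv, Category.assoc, ← hψ, hψ0, Functor.map_zero, comp_zero,
    zero_comp]

/-- Restriction along a surjective open immersion is faithful on morphisms. -/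
theorem eq_zero_of_rd_map {U X : Scheme.{u}} (j : U ⟶ X) [IsOpenImmersion j] (hj : Function.Surjective j.base)
    {K L : DCoh.D X} (φ : K ⟶ L) (h : (rd j).map φ = 0) : φ = 0 := by
  haveI := QCohD.hasRpush j
  haveI := Thomason.isIso_restrictRpushAdj_counit j
  letI := rpushCommShift j
  haveI := rpush_isTriangulated j
  let adj := Thomason.restrictRpushAdj j
  haveI : IsIso (adj.unit.app L) := by
    obtain ⟨C, g, w, hT⟩ := distinguished_cocone_triangle (adj.unit.app L)
    refine (Triangle.isZero₃_iff_isIso₁ _ hT).1 (Thomason.isZero_of_rd_surjective j hj ?_)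
    exact (Triangle.isZero₃_iff_isIso₁ _ ((rd j).map_distinguished _ hT)).2 (Thomason.isIso_rd_map_unit j L)
  have hn := adj.unit.naturality φ
  simp only [Functor.id_map, Functor.comp_map] at hn
  rw [h, Functor.map_zero, comp_zero] at hn
  exact (cancel_mono (adj.unit.app L)).1 (hn.trans zero_comp.symm)

/-- On an affine scheme. -/
theorem hom_eq_zero_affine {X : Scheme.{u}} [IsAffine X] {P L : DCoh.D X} (hP : DCoh.IsPerfect P) {b : ℤ}
    (hb : 1 ≤ b) (G : CochainComplex X.Modules ℤ) (eG : DCoh.toD X G ≅ P)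
    (hta : DerSch.HasTorAmplitude (𝟙 X) 1 b G) (hL : DCoh.IsQCohD L) [L.IsLE 0] (φ : P ⟶ L) : φ = 0 := by
  let e := X.isoSpec.inv
  refine eq_zero_of_rd_map e e.homeomorph.surjective φ ?_
  haveI := isLE_rd e L 0
  refine hom_eq_zero_spec (isPerfect_rd e hP) hb (((Scheme.Modules.restrictFunctor e).mapHomologicalComplex
      (ComplexShape.up ℤ)).obj G) ((rdQ e).symm.app G ≪≫ (rd e).mapIso eG) (fun y => ?_) (QCohD.isQCohD_rd _ hL) _
  exact TorTest.at_cancel (𝟙 _) e ((TorTest.at_congr (by rw [Category.id_comp, Category.comp_id]) 1 b _ _).1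
    ((TorTest.at_restrict e (𝟙 X) 1 b G y).2 (hta _)))

end Groth.Agent.H16Derived.H0Split
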