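import Groth.Agent.H16Derived.H0Split.Unit
import Groth.Agent.H16Derived.H0Split.Affine
import Groth.Agent.H16Derived.RelTensor.LocFree
import Groth.Agent.H16Derived.TorTest.FibrePerfect
import Groth.Agent.H16Derived.Thomason.CohExtend

/-!
# `Rf_* O ≅ O ⊞ P` locally on the base
-/

set_option autoImplicit false
set_option linter.style.haveILetI false
set_option backward.isDefEq.respectTransparency false

universe u

open CategoryTheory CategoryTheory.Limits AlgebraicGeometry CategoryTheory.Pretriangulated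

attribute [local instance] HasDerivedCategory.standard

noncomputable section

namespace Groth.Agent.H16Derived.H0Split

open Groth.Agent.H16Derived.KFlat Groth.Agent.H16Derived.KFlat.Stalk Groth.Agent.H16Derived.BaseChange

variable {X S : Scheme.{u}}

/-- The cone with explicit objects. -/
theorem isGE_one' {A B C : DCoh.D S} {u : A ⟶ B} {v : B ⟶ C} {w : C ⟶ A⟦(1 : ℤ)⟧}
    (hT : Triangle.mk u v w ∈ distTriang (DCoh.D S)) (hA : A.IsGE 0) (hA' : A.IsLE 0) (hB : B.IsGE 0)
    (h : IsIso ((DerivedCategory.homologyFunctor S.Modules 0).map u)) : C.IsGE 1 := by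
  haveI : (Triangle.mk u v w).obj₁.IsGE 0 := hA
  haveI : (Triangle.mk u v w).obj₁.IsLE 0 := hA'
  haveI : (Triangle.mk u v w).obj₂.IsGE 0 := hB
  exact isGE_one_of_isIso_homology _ hT h

/-- Over a field bounded objects have the tor amplitude of their cohomology. -/
theorem at_of_field {Z : Scheme.{u}} (p : Z) (hp : IsField (Z.presheaf.stalk p)) (K : CochainComplex Z.Modules ℤ)
    {a b : ℤ} (hge : (DCoh.toD Z K).IsGE a) (hle : (DCoh.toD Z K).IsLE b) :
    DerSch.HasTorAmplitudeAt (𝟙 Z) a b K p := by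
  haveI := hge
  haveI := hle
  obtain ⟨T, hT1, hT2, ⟨e⟩⟩ := DerivedCategory.exists_iso_Q_obj_of_isGE_of_isLE (DCoh.toD Z K) a b
  refine H4DR.TorAmp.ta_of_iso (TorTest.stalkOverIso (𝟙 Z) p e).symm ?_
  refine ⟨(DerSch.stalkCxOver (𝟙 Z) p).obj T, fun i hi => (DerSch.stalkOver (𝟙 Z) p).map_isZero ?_, fun i => ?_,
    ⟨Iso.refl _⟩⟩
  · rcases hi with hi | hi
    · exact T.isZero_of_isStrictlyGE a i hi
    · exact T.isZero_of_isStrictlyLE b i hi
  · have hp' : @IsField (Z.presheaf.stalk p) Ring.toSemiring := hp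
    letI := hp'.toField
    exact (inferInstance : Module.Flat (Z.presheaf.stalk p) ((DerSch.stalkOver (𝟙 Z) p).obj (T.X i)))

variable (f : X ⟶ S) [IsProper f] [Flat f] [LocallyOfFinitePresentation f]
  (hK : ∀ s : S, IsIso (f.fiberToSpecResidueField s).appTop) [DCoh.HasRpush f]

include hK in
/-- The fibre of the cone of the unit lives in degrees `≥ 1`. -/
theorem isGE_lpull_cone [DCoh.HasLpull f] {P : DCoh.D S} {g : _ ⟶ P} {w : P ⟶ _}
    (hT : Triangle.mk ((lpullRpushAdj f).unit.app (DCoh.inD S (Coh.structureModule S))) g w ∈ distTriang _)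
    {Z : Scheme.{u}} (t : Z ⟶ S) [DCoh.HasLpull t] : ((DCoh.Lpull t).obj P).IsGE 1 := by
  let hsq := IsPullback.of_hasPullback f t
  let f' := pullback.snd f t
  let t' := pullback.fst f t
  haveI := hasLpull t'
  haveI := hasLpull f'
  haveI := QCohD.hasRpush f'
  letI := lpullCommShift t
  haveI := lpull_isTriangulated t
  let O := DCoh.inD S (Coh.structureModule S)
  obtain ⟨χ⟩ := nonempty_sq hsq.w (isLp_self f) (isLp_self f') (isLp_self t) (isLp_self t')
  have hq : DCoh.IsQCohD ((DCoh.Lpull f).obj O) :=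
    QCohD.isQCohD_iso (lpullO f).symm (TorTest.isQCohD_inD (H29Fitt.isQCoh_of_isFP _ H06EGA9.isFP_structureModule))
  haveI := bc_main hsq (ti_of_flat f t) _ _ _ _ _ _ (lpullRpushAdj f) (lpullRpushAdj f') (isLp_self f)
    (isLp_self f') (isLp_self t) (isLp_self t') χ _ hq
  let β := asIso (bcApp (lpullRpushAdj f) (lpullRpushAdj f') χ.hom ((DCoh.Lpull f).obj O))
  let u' := (lpullRpushAdj f').unit.app ((DCoh.Lpull t).obj O) ≫ (DCoh.Rpush f').map (χ.hom.app O)
  have hu : (DCoh.Lpull t).map ((lpullRpushAdj f).unit.app O) = u' ≫ β.inv := by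
    rw [Iso.eq_comp_inv]
    exact (unit_bc (lpullRpushAdj f) (lpullRpushAdj f') χ.hom O).symm
  have h0 : IsIso ((DerivedCategory.homologyFunctor Z.Modules 0).map ((DCoh.Lpull t).map ((lpullRpushAdj f).unit.app O))) := by
    haveI : IsIso ((DerivedCategory.homologyFunctor Z.Modules 0).map
        ((lpullRpushAdj f').unit.app ((DCoh.Lpull t).obj O))) := by
      haveI := isIso_homology_unit f' (LeadBC.GenBC.isIso_appTop_fibre_baseChange f hsq hK)
      rw [show (lpullRpushAdj f').unit.app ((DCoh.Lpull t).obj O) = (lpullO t).hom ≫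
          (lpullRpushAdj f').unit.app (DCoh.inD Z (Coh.structureModule Z)) ≫
          (DCoh.Rpush f').map ((DCoh.Lpull f').map (lpullO t).inv) by
        have hn := (lpullRpushAdj f').unit.naturality (lpullO t).inv
        simp only [Functor.id_map, Functor.comp_map] at hn
        rw [← hn, Iso.hom_inv_id_assoc]]
      rw [Functor.map_comp, Functor.map_comp]
      infer_instance
    rw [hu, Functor.map_comp, Functor.map_comp]
    infer_instance
  have hA : ((DCoh.Lpull t).obj O).IsGE 0 := DerivedCategory.TStructure.t.isGE_of_iso (lpullO t).symm 0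
  have hA' : ((DCoh.Lpull t).obj O).IsLE 0 := DerivedCategory.TStructure.t.isLE_of_iso (lpullO t).symm 0
  have hB : ((DCoh.Lpull t).obj ((DCoh.Rpush f).obj ((DCoh.Lpull f).obj O))).IsGE 0 := by
    haveI : ((DCoh.Lpull t').obj ((DCoh.Lpull f).obj O)).IsGE 0 :=
      DerivedCategory.TStructure.t.isGE_of_iso
        ((DCoh.Lpull t').mapIso (lpullO f) ≪≫
          lpullSingleIso t' (H8Props.RelPC.isFinLocFree_structure X) 0).symm 0
    haveI := isGE_rpush f' ((DCoh.Lpull t').obj ((DCoh.Lpull f).obj O)) 0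
    exact DerivedCategory.TStructure.t.isGE_of_iso β.symm 0
  exact isGE_one' ((DCoh.Lpull t).map_distinguished _ hT) hA hA' hB h0

include hK in
/-- **The splitting over an affine base**, with the amplitude stalk by stalk. -/
theorem exists_splitting_stalk [IsAffine S] [∀ A B : DCoh.D S, HasBinaryBiproduct A B] :
    ∃ (P : DCoh.D S) (b : ℤ) (G : CochainComplex S.Modules ℤ), DCoh.IsPerfect P ∧
      Nonempty (DCoh.toD S G ≅ P) ∧ DerSch.HasTorAmplitude (𝟙 S) 1 b G ∧
      Nonempty ((DCoh.Rpush f).obj (DCoh.inD X (Coh.structureModule X)) ≅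
        DCoh.inD S (Coh.structureModule S) ⊞ P) := by
  haveI := hasLpull f
  let O := DCoh.inD S (Coh.structureModule S)
  let η := (lpullRpushAdj f).unit.app O
  obtain ⟨P, g, w, hT⟩ := distinguished_cocone_triangle η
  have hfp : CohB1.IsFP (Coh.structureModule X) := H06EGA9.isFP_structureModule
  have hO : DCoh.IsPerfect O := isPerfect_of_iso
    (DerivedCategory.Q.mapIso ((shiftFunctorZero (CochainComplex S.Modules ℤ) ℤ).app (Dual.S₀ S)) ≪≫
      ((DerivedCategory.singleFunctorIsoCompQ S.Modules 0).app _).symm) (Dual.isPerfect_o (X := S) 0)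
  have hE : DCoh.IsPerfect ((DCoh.Rpush f).obj ((DCoh.Lpull f).obj O)) :=
    isPerfect_of_iso ((DCoh.Rpush f).mapIso (lpullO f)).symm (RelTensor.isPerfect_rpush_inD f hfp
      (fun x => (H06EGA9.isFlatOverAt_structureModule_iff f x).2 (Flat.stalkMap f x))
      ⟨LeadProper.isClosed_support _ (H29Fitt.isQCoh_of_isFP _ hfp) (H17.ConsProp.isFT_of_isFP hfp), inferInstance⟩)
  have hP : DCoh.IsPerfect P := isPerfect_obj₃ hT hO hE
  obtain ⟨b₀, hb₀⟩ := exists_isLE_of_local (K := P) fun x => by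
    obtain ⟨V, hx, hV⟩ := (isPseudoCoherentD_iff _ _).1 (isPseudoCoherentD_of_isPerfect hP 0) x
    obtain ⟨n, hn⟩ := hV.exists_isLE
    exact ⟨V, n, hx, hn⟩
  let b := max 1 b₀
  haveI : P.IsLE b := DerivedCategory.TStructure.t.isLE_of_le P b₀ b (le_max_right _ _)
  haveI hGE : P.IsGE 1 := by
    haveI := isGE_rpush_lpullO f
    exact isGE_one' hT (inferInstanceAs (O.IsGE 0)) (inferInstanceAs (O.IsLE 0)) (isGE_rpush_lpullO f)
      (isIso_homology_unit f hK)
  obtain ⟨G, -, -, ⟨eG⟩⟩ := Dual.exists_rep P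
  obtain ⟨K, hKf, ⟨eK⟩⟩ := exists_kflat_rep P
  have hta : DerSch.HasTorAmplitude (𝟙 S) 1 b G := fun x => by
    refine H4DR.TorAmp.ta_of_iso (TorTest.stalkOverIso (𝟙 S) x (eK ≪≫ eG.symm)) ?_
    let t := S.fromSpecResidueField x
    haveI := hasLpull t
    let p : Spec (S.residueField x) := default
    have hpx : t.base p = x := Scheme.fromSpecResidueField_apply _ _
    haveI := isGE_lpull_cone f hK hT t
    haveI := isLE_lpull t P b
    have hTA : DerSch.HasTorAmplitudeAt (𝟙 _) 1 b ((ProjFormula.pullCx t).obj K) p :=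
      at_of_field p (isField_stalk_residueField x p) _
        (DerivedCategory.TStructure.t.isGE_of_iso ((DCoh.Lpull t).mapIso eK.symm ≪≫ lpullObjIso t K hKf) 1)
        (DerivedCategory.TStructure.t.isLE_of_iso ((DCoh.Lpull t).mapIso eK.symm ≪≫ lpullObjIso t K hKf) b)
    let φ := (IsLocalRing.residue ((Spec (S.residueField x)).presheaf.stalk p)).comp (t.stalkMap p).hom
    haveI := H4DR.TorAmp.hasLBaseChange φ
    have hφ : Function.Surjective φ := IsLocalRing.residue_surjective.comp (t.stalkMap_surjective p)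
    have hker : RingHom.ker φ = (IsLocalRing.maximalIdeal (S.presheaf.stalk ((𝟙 S : S ⟶ S).base (t.base p)))).map
        ((𝟙 S : S ⟶ S).stalkMap (t.base p)).hom := by
      rw [IsLocalRing.eq_maximalIdeal (RingHom.ker_isMaximal_of_surjective φ hφ), Scheme.Hom.stalkMap_id]
      exact (Ideal.map_id _).symm
    haveI := TorTest.subsingleton_lbase_residue t p hKf hTA 0 (by norm_num)
    have h := TorTest.ta_at_of_lbase (𝟙 S) (⊤ : S.Opens) (a := 1) (b := b) (G := K)
      (by
        haveI : (DCoh.toD S K).IsGE 1 := DerivedCategory.TStructure.t.isGE_of_iso eK.symm 1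
        haveI : DerivedCategory.TStructure.t.IsGE ((DerivedCategory.Q ⋙ rd (⊤ : S.Opens).ι).obj K) 1 :=
          Thomason.isGE_rd (⊤ : S.Opens) (DCoh.toD S K) 1
        exact DerivedCategory.TStructure.t.isGE_of_iso ((rdQ (⊤ : S.Opens).ι).app K) 1)
      (by
        haveI : (DCoh.toD S K).IsLE b := DerivedCategory.TStructure.t.isLE_of_iso eK.symm b
        haveI : DerivedCategory.TStructure.t.IsLE ((DerivedCategory.Q ⋙ rd (⊤ : S.Opens).ι).obj K) b :=
          isLE_rd (⊤ : S.Opens).ι (DCoh.toD S K) b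
        exact DerivedCategory.TStructure.t.isLE_of_iso ((rdQ (⊤ : S.Opens).ι).app K) b)
      (isPseudoCoherentD_of_iso eK.symm (isPseudoCoherentD_of_isPerfect hP _)) (t.base p) trivial φ hφ hker
      (by norm_num; assumption)
    rw [hpx] at h
    exact h
  have hw : w = 0 := by
    haveI : O.IsLE 0 := inferInstance
    haveI : (O⟦(1 : ℤ)⟧).IsLE 0 := by
      haveI : (O⟦(1 : ℤ)⟧).IsLE (-1) := DerivedCategory.TStructure.t.isLE_shift O 0 1 (-1) (by norm_num)
      exact DerivedCategory.TStructure.t.isLE_of_le (O⟦(1 : ℤ)⟧) (-1) 0 (by norm_num)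
    exact hom_eq_zero_affine hP (le_max_left 1 b₀) G eG hta
      (QCohD.HomVanish.isQCohD_shift (Dual.isQCohD_of_isPerfect hO) 1) w
  obtain ⟨e, -, -⟩ := exists_iso_binaryBiproduct_of_distTriang _ hT hw
  exact ⟨P, b, G, hP, ⟨eG⟩, hta, ⟨(DCoh.Rpush f).mapIso (lpullO f).symm ≪≫ e⟩⟩

include hK in
/-- **The splitting over an affine base.** -/
theorem exists_splitting [IsAffine S] [∀ A B : DCoh.D S, HasBinaryBiproduct A B] :
    ∃ (P : DCoh.D S) (b : ℤ), DCoh.IsPerfect P ∧ DCoh.HasTorAmplitudeIn 1 b P ∧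
      Nonempty ((DCoh.Rpush f).obj (DCoh.inD X (Coh.structureModule X)) ≅
        DCoh.inD S (Coh.structureModule S) ⊞ P) := by
  obtain ⟨P, b, G, hP, ⟨eG⟩, hta, he⟩ := exists_splitting_stalk f hK
  exact ⟨P, b, hP, KFlat.Stalk.hasTorAmplitudeIn_of_iso eG.symm (TorTest.hasTorAmplitudeIn_of_stalk hta), he⟩

end Groth.Agent.H16Derived.H0Split
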