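import Groth.Agent.H16Derived.H0Split.Main
import Groth.Agent.H16Derived.TorTest.RpushAmp
import Groth.Agent.H16Derived.QRep.Vanish
import Groth.Agent.H18PBC.SteinEt.Main
import Groth.Agent.H8Props.Stein.Basic
import Groth.Agent.H12Pic.FibreConst
import Groth.Agent.H05EGA4.SchImageClopen
import Groth.Agent.H7Flat.GeomReducedOpen
import Groth.Prelude.Def_RelSpec

/-!
# `Rf_* O ≅ f_* O ⊞ P` when the fibres are geometrically reduced
-/

set_option autoImplicit false
set_option linter.style.haveILetI false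
set_option backward.isDefEq.respectTransparency false

universe u

open CategoryTheory CategoryTheory.Limits AlgebraicGeometry CategoryTheory.Pretriangulated

attribute [local instance] HasDerivedCategory.standard

noncomputable section

namespace Groth.Agent.H16Derived.H0Split

open Groth.Agent.H16Derived.KFlat Groth.Agent.H16Derived.KFlat.Stalk

section Ring

/-- Restriction along a flat map keeps the tor amplitude. -/
theorem ta_restrict_flat {R A : Type u} [CommRing R] [CommRing A] (φ : R →+* A) (hφ : φ.Flat)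
    {K : DRing.Cx A} {a b : ℤ} (hK : DRing.HasTorAmplitudeIn A a b (DRing.toD K)) :
    DRing.HasTorAmplitudeIn R a b (DRing.toD ((DTen.resCx φ).obj K)) := by
  obtain ⟨E, hv, hf, ⟨e⟩⟩ := hK
  refine ⟨(DTen.resCx φ).obj E, fun i hi => (ModuleCat.restrictScalars.{u} φ).map_isZero (hv i hi),
    fun i => ?_, ⟨(ModuleCat.restrictScalars.{u} φ).mapDerivedCategoryFactors.symm.app E ≪≫
      (ModuleCat.restrictScalars.{u} φ).mapDerivedCategory.mapIso e ≪≫
      (ModuleCat.restrictScalars.{u} φ).mapDerivedCategoryFactors.app K⟩⟩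
  letI := φ.toAlgebra
  haveI : Module.Flat R A := hφ
  haveI : Module.Flat A (E.X i) := hf i
  letI : Module R (E.X i) := Module.compHom _ φ
  haveI : IsScalarTower R A (E.X i) := ⟨fun r a x => by
    show ((φ r) * a) • x = φ r • (a • x)
    rw [mul_smul]⟩
  exact Module.Flat.trans R A (E.X i)

end Ring

variable {X N S : Scheme.{u}}

/-- Tor amplitude over a flat base. -/
theorem hasTorAmplitude_comp_flat (π : N ⟶ S) [Flat π] {G : CochainComplex N.Modules ℤ} {a b : ℤ}
    (hG : DerSch.HasTorAmplitude (𝟙 N) a b G) : DerSch.HasTorAmplitude (𝟙 N ≫ π) a b G := fun x => by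
  refine H4DR.TorAmp.ta_of_iso (DerivedCategory.Q.mapIso (TorTest.stalkOverCompIso (𝟙 N) π x G)).symm ?_
  exact ta_restrict_flat _ (Flat.stalkMap π _) (hG x)

/-- The splitting descends along a finite flat morphism of affine schemes. -/
theorem exists_splitting_comp (u : X ⟶ N) (π : N ⟶ S) (f : X ⟶ S) (hf : u ≫ π = f) [IsAffine S]
    [IsFinite π] [Flat π] [LocallyOfFinitePresentation π]
    [IsProper u] [Flat u] [LocallyOfFinitePresentation u]
    (hK : ∀ n : N, IsIso (u.fiberToSpecResidueField n).appTop) [DCoh.HasRpush f]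
    [∀ A B : DCoh.D S, HasBinaryBiproduct A B] :
    ∃ (P : DCoh.D S) (b : ℤ), DCoh.IsPerfect P ∧ DCoh.HasTorAmplitudeIn 1 b P ∧
      Nonempty ((DCoh.Rpush f).obj (DCoh.inD X (Coh.structureModule X)) ≅
        DCoh.inD S ((Coh.push f).obj (Coh.structureModule X)) ⊞ P) := by
  subst hf
  haveI : IsAffine N := isAffine_of_isAffineHom π
  haveI := QCohD.hasRpush u
  haveI := QCohD.hasRpush π
  haveI : ∀ A B : DCoh.D N, HasBinaryBiproduct A B := fun A B => inferInstance
  obtain ⟨P', b, G, hP', ⟨eG⟩, hta, ⟨e'⟩⟩ := exists_splitting_stalk u hK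
  haveI := isGrothendieckAbelian_modules (X := X)
  haveI := QCohD.hasInjectiveResolutions_modules (X := X)
  letI := rpushCommShift π
  haveI := rpush_isTriangulated π
  haveI := preservesBinaryBiproducts_of_preservesBiproducts (DCoh.Rpush π)
  obtain ⟨c⟩ := nonempty_rpushCompIso u π
  obtain ⟨eO⟩ := QRep.nonempty_rpush_single_iso π (N := Coh.structureModule N)
    (H29Fitt.isQCoh_of_isFP _ H06EGA9.isFP_structureModule) 0
  let P := (DCoh.Rpush π).obj P'
  let M := (Coh.push π).obj (Coh.structureModule N)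
  let e : (DCoh.Rpush (u ≫ π)).obj (DCoh.inD X (Coh.structureModule X)) ≅ DCoh.inD S M ⊞ P :=
    (c.app _).symm ≪≫ (DCoh.Rpush π).mapIso e' ≪≫ (DCoh.Rpush π).mapBiprod _ _ ≪≫
      biprod.mapIso eO (Iso.refl _)
  have hge' : (DCoh.toD N G).IsGE 1 := (TorTest.bounds_of_ta (𝟙 N) hta).1
  haveI : P'.IsGE 1 := DerivedCategory.TStructure.t.isGE_of_iso eG 1
  haveI : P.IsGE 1 := isGE_rpush π P' 1
  -- the module
  let H₀ := DerivedCategory.homologyFunctor S.Modules 0
  haveI := preservesBinaryBiproducts_of_preservesBiproducts H₀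
  obtain ⟨h₀⟩ := QCohD.nonempty_hd_rpush_single (u ≫ π) (Coh.structureModule X) 0
  let eM : (Coh.push (u ≫ π)).obj (Coh.structureModule X) ≅ M :=
    ((Scheme.Modules.pushforward (u ≫ π)).rightDerivedZeroIsoSelf.app _).symm ≪≫ h₀.symm ≪≫ H₀.mapIso e ≪≫
      H₀.mapBiprod _ _ ≪≫
      (isoBiprodZero (DerivedCategory.isZero_of_isGE P 1 0 (by omega))).symm ≪≫
      (DerivedCategory.singleFunctorCompHomologyFunctorIso S.Modules 0).app M
  have hP : DCoh.IsPerfect P := BaseChange.isPerfect_rpush π hP'
  have hT : DerSch.HasTorAmplitudeD (𝟙 S) 1 (b + 1) P := by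
    have hw : DerSch.HasTorAmplitude (π ≫ 𝟙 S) 1 b G := by
      have := hasTorAmplitude_comp_flat π hta
      rwa [Category.id_comp] at this
      -- `π ≫ 𝟙 = π`
    have h := TorTest.hasTorAmplitudeD_rpush π (𝟙 S) (QRep.bound_one π) G
      (QCohD.isQCohD_iso eG.symm (Dual.isQCohD_of_isPerfect hP')) hw
    exact fun F ⟨eF⟩ => h F ⟨eF ≪≫ ((DCoh.Rpush π).mapIso eG).symm⟩
  obtain ⟨F, -, -, ⟨eF⟩⟩ := Dual.exists_rep P
  exact ⟨P, b + 1, hP,
    KFlat.Stalk.hasTorAmplitudeIn_of_iso eF.symm (TorTest.hasTorAmplitudeIn_of_stalk (hT F ⟨eF⟩)),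
    ⟨e ≪≫ biprod.mapIso ((DerivedCategory.singleFunctor S.Modules 0).mapIso eM.symm) (Iso.refl _)⟩⟩

section GR

variable (f : X ⟶ S) [IsProper f] [Flat f] [LocallyOfFinitePresentation f] [GeometricallyReduced f]

/-- All fibres are geometrically reduced. -/
theorem grAt (y : S) : H18PBC.SteinEt.GRAt f y :=
  H18PBC.SteinEt.grAt_of_geometricallyReduced f y
    (MorphismProperty.of_isPullback (IsPullback.of_hasPullback f (S.fromSpecResidueField y))
      ‹GeometricallyReduced f›)

theorem geometricallyReduced_of_comp (u : X ⟶ N) (π : N ⟶ S) [Etale π] (hf : u ≫ π = f) :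
    GeometricallyReduced u := by
  subst hf
  refine ⟨geometrically_iff_of_isClosedUnderIsomorphisms.2 fun K _ a => ?_⟩
  haveI : IsReduced (pullback (u ≫ π) (a ≫ π)) :=
    GeometricallyReduced.geometrically_isReduced (f := u ≫ π) _ _ _ (IsPullback.of_hasPullback _ _)
  haveI : IsOpenImmersion (pullback.mapDesc u a π) :=
    MorphismProperty.of_isPullback (pullback_map_diagonal_isPullback u a π) inferInstance
  exact isReduced_of_isOpenImmersion (pullback.mapDesc u a π)

/-- **Splitting off the finite étale part.** -/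
theorem exists_splitting_geometricallyReduced [IsAffine S] [DCoh.HasRpush f]
    [∀ A B : DCoh.D S, HasBinaryBiproduct A B] :
    ∃ (P : DCoh.D S) (b : ℤ), DCoh.IsPerfect P ∧ DCoh.HasTorAmplitudeIn 1 b P ∧
      Nonempty ((DCoh.Rpush f).obj (DCoh.inD X (Coh.structureModule X)) ≅
        DCoh.inD S ((Coh.push f).obj (Coh.structureModule X)) ⊞ P) := by
  obtain ⟨h₁, h₂⟩ := H18PBC.SteinEt.isFinite_etale_fromNormalization f (grAt f)
  haveI := h₁
  haveI := h₂
  let u := f.toNormalization
  let π := f.fromNormalization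
  have hf : u ≫ π = f := f.toNormalization_fromNormalization
  haveI : IsProper u := H8Props.Stein.isProper_toNormalization f
  haveI : Flat (u ≫ π) := by rw [hf]; infer_instance
  haveI : Flat u := H05EGA4.SchImageClopen.flat_of_comp u π
  haveI : LocallyOfFinitePresentation (u ≫ π) := by rw [hf]; infer_instance
  haveI : LocallyOfFinitePresentation u := H7Lim.locallyOfFinitePresentation_of_comp u π
  haveI : GeometricallyConnected u := H8Props.Stein.geometricallyConnected_toNormalization f
  haveI : GeometricallyReduced u := geometricallyReduced_of_comp f u π hf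
  exact exists_splitting_comp u π f hf (H12Pic.isIso_appTop_fiber_of_geomConnected_geomReduced u)

end GR

/-- The spectrum of the direct image algebra is finite étale when the functions are. -/
theorem isFinite_etale_directImage_π (f : X ⟶ S) [QuasiCompact f] [QuasiSeparated f]
    (h : ∀ U : S.Opens, IsAffineOpen U → (f.app U).hom.Finite ∧ (f.app U).hom.Etale) :
    IsFinite (RelSpec.QCAlg.directImage f).π ∧ Etale (RelSpec.QCAlg.directImage f).π := by
  let A := RelSpec.QCAlg.directImage f
  have key : ∀ (P : MorphismProperty Scheme.{u}) [P.RespectsIso] (U : S.Opens) (hU : IsAffineOpen U),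
      P (Spec.map (f.app U)) → P (A.π ∣_ U) := by
    intro P _ U hU hP
    let i := IsOpenImmersion.isoOfRangeEq (A.ι U hU) (A.π ⁻¹ᵁ U).ι
      (by rw [Scheme.Opens.range_ι, A.π_preimage U hU]; rfl)
    have e : A.π ∣_ U = i.inv ≫ Spec.map (f.app U) ≫ hU.isoSpec.inv := by
      rw [← cancel_epi i.hom, Iso.hom_inv_id_assoc, ← cancel_mono U.ι, Category.assoc, morphismRestrict_ι,
        IsOpenImmersion.isoOfRangeEq_hom_fac_assoc, A.ι_π, Category.assoc, hU.isoSpec_inv_ι]
      rfl
    rw [e, P.cancel_left_of_respectsIso, P.cancel_right_of_respectsIso]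
    exact hP
  constructor
  · refine IsZariskiLocalAtTarget.of_iSup_eq_top (P := @IsFinite) (fun U : S.affineOpens => U.1)
      (iSup_affineOpens_eq_top S) fun U => key @IsFinite U.1 U.2 ?_
    exact (IsFinite.SpecMap_iff _).2 (h U.1 U.2).1
  · refine IsZariskiLocalAtTarget.of_iSup_eq_top (P := @Etale) (fun U : S.affineOpens => U.1)
      (iSup_affineOpens_eq_top S) fun U => key @Etale U.1 U.2 ?_
    exact (HasRingHomProperty.Spec_iff (P := @Etale)).2 (h U.1 U.2).2

/-- **The local statement.** -/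
theorem exists_nhd (f : X ⟶ S) [IsProper f] [Flat f] [LocallyOfFinitePresentation f] (s : S)
    (hs : GeometricallyReduced (f.fiberToSpecResidueField s)) :
    ∃ V : S.Opens, IsAffineOpen V ∧ s ∈ V ∧ GeometricallyReduced (f ∣_ V) := by
  obtain ⟨V, hV, hsV, hle⟩ := exists_isAffineOpen_mem_and_subset
    (U := (⟨_, Groth.Agent.H7Flat.GeomReduced.isOpen_geometricallyReduced f⟩ : S.Opens)) hs
  refine ⟨V, hV, hsV, ?_⟩
  refine ⟨geometrically_iff_forall_fiberToSpecResidueField.2 fun y => ?_⟩
  exact ((H7Flat.GeomReduced.geometricallyReduced_fiber_baseChange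
    (isPullback_morphismRestrict f V).flip y).2 (hle y.2)).geometrically_isReduced

end Groth.Agent.H16Derived.H0Split
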